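import Cfsg.Agent.Lib.Helper44.FW.Defs

/-!
# FW package [CNTEQ] (S3211)

An element swapping `j` and `t₀` by conjugation gives equally many square roots of `j` and of
`t₀` in `C(j) ∩ C(t₀)`.
-/

set_option autoImplicit false

namespace Cfsg.Agent.Lib.Helper9.FW

open Cfsg.Agent.Lib.Helper44.FW

universe u

theorem conj_comm_aux9 {G : Type u} [Group G] {j t g x : G} (h2 : g * t * g⁻¹ = j)
    (hx2 : x * t = t * x) : (g * x * g⁻¹) * j = j * (g * x * g⁻¹) := by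
  calc g * x * g⁻¹ * j = g * x * g⁻¹ * (g * t * g⁻¹) := by rw [h2]
    _ = g * (x * t) * g⁻¹ := by group
    _ = g * (t * x) * g⁻¹ := by rw [hx2]
    _ = (g * t * g⁻¹) * (g * x * g⁻¹) := by group
    _ = j * (g * x * g⁻¹) := by rw [h2]

theorem pkgCntEq : PkgCntEq.{u} := by
  intro G _ j t₀ g h1 h2
  have h3 : g⁻¹ * j * g⁻¹⁻¹ = t₀ := by rw [← h2]; group
  have h4 : g⁻¹ * t₀ * g⁻¹⁻¹ = j := by rw [← h1]; group
  refine Nat.card_congr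
    ⟨fun r => ⟨g * r.1 * g⁻¹, conj_comm_aux9 h2 r.2.2.1, conj_comm_aux9 h1 r.2.1, ?_⟩,
     fun r => ⟨g⁻¹ * r.1 * g⁻¹⁻¹, conj_comm_aux9 h4 r.2.2.1, conj_comm_aux9 h3 r.2.1, ?_⟩,
     ?_, ?_⟩
  · rw [conj_pow, r.2.2.2, h1]
  · rw [conj_pow, r.2.2.2, h4]
  · intro r
    apply Subtype.ext
    show g⁻¹ * (g * r.1 * g⁻¹) * g⁻¹⁻¹ = r.1
    group
  · intro r
    apply Subtype.ext
    show g * (g⁻¹ * r.1 * g⁻¹⁻¹) * g⁻¹ = r.1
    group

end Cfsg.Agent.Lib.Helper9.FW
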