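import Cfsg.Agent.Lib.Helper44.FW.Defs

/-!
# FW package [SWAP] (S3211)

If some conjugate `≠ j` of `j` commutes with `j`, then every involution `t₀ ≠ j` of `C(j)` is
swapped with `j` by conjugation with some element.
-/

set_option autoImplicit false

namespace Cfsg.Agent.Lib.Helper9.FW

open Cfsg.Agent.Lib.Helper44.FW

universe u

theorem pkgSwap : PkgSwap.{u} := by
  intro G _ j t₀ hj hconj ht₀C ht₀2 ht₀1 ht₀j ⟨g, hgne, hgc⟩
  have hj2 : j ^ 2 = 1 := by rw [← hj]; exact pow_orderOf_eq_one j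
  have hj1 : j ≠ 1 := by
    intro h; rw [h, orderOf_one] at hj; exact absurd hj (by norm_num)
  have hcent : ∀ x : G, x ∈ Subgroup.centralizer ({j} : Set G) ↔ x * j = j * x := by
    intro x
    rw [Subgroup.mem_centralizer_iff]
    constructor
    · intro h; exact (h j rfl).symm
    · intro h y hy; rw [Set.mem_singleton_iff.mp hy]; exact h.symm
  have htC : g * j * g⁻¹ ∈ Subgroup.centralizer ({j} : Set G) := (hcent _).mpr hgc
  have ht2 : (g * j * g⁻¹) ^ 2 = 1 := by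
    rw [pow_two]
    have e : g * j * g⁻¹ * (g * j * g⁻¹) = g * (j * j) * g⁻¹ := by group
    rw [e, ← pow_two, hj2]; group
  have ht1 : g * j * g⁻¹ ≠ 1 := by
    intro h
    apply hj1
    have e : j = g⁻¹ * (g * j * g⁻¹) * g := by group
    rw [e, h]; group
  obtain ⟨c, hcC, hc⟩ := hconj _ htC ht2 ht1 hgne t₀ ht₀C ht₀2 ht₀1 ht₀j
  have hg1 : (c * g) * j * (c * g)⁻¹ = t₀ := by
    rw [← hc]; group
  have ht₀c : t₀ * j = j * t₀ := (hcent _).mp ht₀C
  have haC : (c * g)⁻¹ * j * (c * g) ∈ Subgroup.centralizer ({j} : Set G) := by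
    rw [hcent]
    have e1 : (c * g)⁻¹ * j * (c * g) * j =
        (c * g)⁻¹ * (j * ((c * g) * j * (c * g)⁻¹)) * (c * g) := by group
    have e2 : j * ((c * g)⁻¹ * j * (c * g)) =
        (c * g)⁻¹ * (((c * g) * j * (c * g)⁻¹) * j) * (c * g) := by group
    rw [e1, e2, hg1, ht₀c]
  have ha2 : ((c * g)⁻¹ * j * (c * g)) ^ 2 = 1 := by
    rw [pow_two]
    have e : (c * g)⁻¹ * j * (c * g) * ((c * g)⁻¹ * j * (c * g)) =
        (c * g)⁻¹ * (j * j) * (c * g) := by group
    rw [e, ← pow_two, hj2]; group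
  have ha1 : (c * g)⁻¹ * j * (c * g) ≠ 1 := by
    intro h
    apply hj1
    have e : j = (c * g) * ((c * g)⁻¹ * j * (c * g)) * (c * g)⁻¹ := by group
    rw [e, h]; group
  have haj : (c * g)⁻¹ * j * (c * g) ≠ j := by
    intro h
    have e : (c * g) * j * (c * g)⁻¹ = j := by
      calc (c * g) * j * (c * g)⁻¹ = (c * g) * ((c * g)⁻¹ * j * (c * g)) * (c * g)⁻¹ := by
            rw [h]
        _ = j := by group
    exact ht₀j (hg1.symm.trans e)
  obtain ⟨c', hc'C, hc'⟩ := hconj t₀ ht₀C ht₀2 ht₀1 ht₀j _ haC ha2 ha1 haj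
  have hc'j : c' * j = j * c' := (hcent _).mp hc'C
  refine ⟨c * g * c', ?_, ?_⟩
  · have e : c * g * c' * j * (c * g * c')⁻¹ = (c * g) * (c' * j * c'⁻¹) * (c * g)⁻¹ := by group
    rw [e, hc'j]
    have e' : j * c' * c'⁻¹ = j := by group
    rw [e', hg1]
  · have e : c * g * c' * t₀ * (c * g * c')⁻¹ = (c * g) * (c' * t₀ * c'⁻¹) * (c * g)⁻¹ := by
      group
    rw [e, hc']; group

end Cfsg.Agent.Lib.Helper9.FW
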